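import Groth.Agent.Lim.Topo
import Groth.Agent.Topo.QCImage
import Groth.Prelude.Def_ProCons
import Mathlib.Topology.Spectral.ConstructibleTopology
import Mathlib.AlgebraicGeometry.Morphisms.QuasiSeparated
import Mathlib.AlgebraicGeometry.Limits

/-! Constructible topology, pro- and ind-constructible subsets of schemes. -/

open CategoryTheory CategoryTheory.Limits AlgebraicGeometry TopologicalSpace Topology

universe u

namespace Groth.Agent.Cons.Basic

theorem exists_isConstructible_subset {X : Type u} [TopologicalSpace X] [CompactSpace X]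
    [QuasiSeparatedSpace X] {s : Set X} (hs : IsOpen[constructibleTopology X] s) :
    ∀ x ∈ s, ∃ C, IsConstructible C ∧ x ∈ C ∧ C ⊆ s := by
  induction hs with
  | basic s hs =>
    intro x hx
    refine ⟨s, ?_, hx, subset_rfl⟩
    rcases hs with ⟨ho, hc⟩ | ⟨hcl, hc⟩
    · exact hc.isConstructible ho
    · exact (hc.isConstructible hcl.isOpen_compl).of_compl
  | univ => exact fun x hx => ⟨_, IsConstructible.univ, hx, subset_rfl⟩
  | inter s t _ _ ihs iht =>
    intro x hx
    obtain ⟨C, hC, hxC, hCs⟩ := ihs x hx.1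
    obtain ⟨C', hC', hxC', hC't⟩ := iht x hx.2
    exact ⟨C ∩ C', hC.inter hC', ⟨hxC, hxC'⟩, Set.inter_subset_inter hCs hC't⟩
  | sUnion S _ ih =>
    intro x ⟨t, ht, hxt⟩
    obtain ⟨C, hC, hxC, hCt⟩ := ih t ht x hxt
    exact ⟨C, hC, hxC, hCt.trans (Set.subset_sUnion_of_mem ht)⟩

theorem isClopen_of_isConstructible {X : Type u} [TopologicalSpace X] [CompactSpace X]
    [QuasiSeparatedSpace X] {s : Set X} (hs : IsConstructible s) :
    IsOpen[constructibleTopology X] s ∧ IsOpen[constructibleTopology X] sᶜ := by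
  induction hs using IsConstructible.empty_union_induction with
  | open_retrocompact U hU hUc =>
    exact ⟨hUc.isCompact.isOpen_constructibleTopology_of_isOpen hU,
      IsCompact.isOpen_constructibleTopology_of_isClosed (by rw [compl_compl]; exact hUc.isCompact)
        hU.isClosed_compl⟩
  | union s hs t ht hs' ht' =>
    let := constructibleTopology X
    exact ⟨hs'.1.union ht'.1, by rw [Set.compl_union]; exact hs'.2.inter ht'.2⟩
  | compl s hs hs' => exact ⟨hs'.2, by rw [compl_compl]; exact hs'.1⟩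

theorem continuous_constructible {X Y : Scheme.{u}} (f : X ⟶ Y) [QuasiCompact f] :
    @Continuous X Y (constructibleTopology X) (constructibleTopology Y) f := by
  refine continuous_generateFrom_iff.mpr fun s hs => isOpen_generateFrom_of_mem ?_
  rcases hs with ⟨ho, hc⟩ | ⟨hcl, hc⟩
  · exact Or.inl ⟨ho.preimage f.continuous, f.isCompact_preimage (U := ⟨s, ho⟩) hc⟩
  · exact Or.inr ⟨hcl.preimage f.continuous,
      f.isCompact_preimage (U := ⟨sᶜ, hcl.isOpen_compl⟩) hc⟩

theorem isOpen_preimage {X Y : Scheme.{u}} (f : X ⟶ Y) [QuasiCompact f] {s : Set Y}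
    (hs : IsOpen[constructibleTopology Y] s) : IsOpen[constructibleTopology X] (f ⁻¹' s) :=
  @Continuous.isOpen_preimage X Y (constructibleTopology X) (constructibleTopology Y) f
    (continuous_constructible f) s hs

theorem isOpen_image_of_isOpenImmersion {X U : Scheme.{u}} [QuasiSeparatedSpace X] [CompactSpace U]
    (j : U ⟶ X) [IsOpenImmersion j] {s : Set U} (hs : IsOpen[constructibleTopology U] s) :
    IsOpen[constructibleTopology X] (j '' s) := by
  have hR : IsOpen[constructibleTopology X] (Set.range j) :=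
    (isCompact_range j.continuous).isOpen_constructibleTopology_of_isOpen j.isOpenEmbedding.isOpen_range
  induction hs with
  | basic s hs =>
    rcases hs with ⟨ho, hc⟩ | ⟨hcl, hc⟩
    · exact (hc.image j.continuous).isOpen_constructibleTopology_of_isOpen
        (j.isOpenEmbedding.isOpenMap _ ho)
    · have h1 : IsOpen (j '' sᶜ) := j.isOpenEmbedding.isOpenMap _ hcl.isOpen_compl
      have : j '' s = Set.range j ∩ (j '' sᶜ)ᶜ := by
        rw [← compl_compl s, Set.image_compl_eq_range_sdiff_image j.isOpenEmbedding.injective,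
          compl_compl]
        rfl
      rw [this]
      exact @IsOpen.inter X (constructibleTopology X) _ _ hR
        (IsCompact.isOpen_constructibleTopology_of_isClosed
          (by rw [compl_compl]; exact hc.image j.continuous) h1.isClosed_compl)
  | univ => rw [Set.image_univ]; exact hR
  | inter s t _ _ ihs iht =>
    rw [Set.image_inter j.isOpenEmbedding.injective]; exact @IsOpen.inter X (constructibleTopology X) _ _ ihs iht
  | sUnion S _ ih => rw [Set.image_sUnion]; exact @isOpen_sUnion X (constructibleTopology X) _ (Set.forall_mem_image.mpr ih)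

theorem t2_constructible (X : Scheme.{u}) : @T2Space X (constructibleTopology X) := by
  refine @T2Space.mk X (constructibleTopology X) fun x y hxy => ?_
  obtain ⟨U, hU, hUm⟩ : ∃ U : X.Opens, IsAffineOpen U ∧ (x ∈ U ↔ y ∉ U) := by
    obtain ⟨W, hW, hWm⟩ := exists_isOpen_xor_mem hxy
    rcases hWm with ⟨hx, hy⟩ | ⟨hy, hx⟩
    · obtain ⟨_, ⟨U, hU, rfl⟩, hxU, hUW⟩ := X.isBasis_affineOpens.exists_subset_of_mem_open hx hW
      exact ⟨U, hU, iff_of_true hxU fun h => hy (hUW h)⟩
    · obtain ⟨_, ⟨U, hU, rfl⟩, hyU, hUW⟩ := X.isBasis_affineOpens.exists_subset_of_mem_open hy hW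
      exact ⟨U, hU, iff_of_false (fun h => hx (hUW h)) (not_not.mpr hyU)⟩
  have h1 := hU.isCompact.isOpen_constructibleTopology_of_isOpen U.2
  have h2 : IsOpen[constructibleTopology X] (U : Set X)ᶜ :=
    IsCompact.isOpen_constructibleTopology_of_isClosed (by rw [compl_compl]; exact hU.isCompact)
      U.2.isClosed_compl
  by_cases hx : x ∈ U
  · exact ⟨_, _, h1, h2, hx, hUm.mp hx, disjoint_compl_right⟩
  · exact ⟨_, _, h2, h1, hx, not_not.mp fun h => hx (hUm.mpr h), disjoint_compl_left⟩

theorem compactSpace_constructible (X : Scheme.{u}) [CompactSpace X] [QuasiSeparatedSpace X] :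
    @CompactSpace X (constructibleTopology X) :=
  @CompactSpace.mk X (constructibleTopology X) (by
    have h := @IsCompact.image (WithConstructibleTopology X) X _ (constructibleTopology X)
      Set.univ _ isCompact_univ (WithTopology.continuous_ofTopology _)
    rwa [Set.image_univ, (WithTopology.ofTopology_surjective _).range_eq] at h)

theorem isConstructible_of_isClopen {X : Scheme.{u}} [CompactSpace X] [QuasiSeparatedSpace X]
    {s : Set X} (ho : IsOpen[constructibleTopology X] s)
    (hc : IsClosed[constructibleTopology X] s) : IsConstructible s := by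
  choose! C hC hxC hCs using exists_isConstructible_subset ho
  obtain ⟨t, hts, ht⟩ := @IsCompact.elim_nhds_subcover X (constructibleTopology X) s
    (@IsClosed.isCompact X (constructibleTopology X) _ (compactSpace_constructible X) hc) C
    fun x hx => @IsOpen.mem_nhds X (constructibleTopology X) _ _
      (isClopen_of_isConstructible (hC x hx)).1 (hxC x hx)
  have : s = ⋃ x ∈ (t : Set X), C x :=
    subset_antisymm ht (Set.iUnion₂_subset fun x hx => hCs x (hts x hx))
  rw [this]
  exact .biUnion t.finite_toSet fun x hx => hC x (hts x hx)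

/-- Ind-constructible means open for the constructible topology on every affine scheme over `X`. -/
theorem isIndConstructible_iff {X : Scheme.{u}} {E : Set X} :
    ProCons.IsIndConstructible E ↔
      ∀ (R : CommRingCat.{u}) (t : Spec R ⟶ X),
        IsOpen[constructibleTopology (Spec R)] (t ⁻¹' E) := by
  constructor
  · intro hE R t
    refine @isOpen_iff_forall_mem_open _ (constructibleTopology (Spec R)) _ |>.mpr fun p hp => ?_
    obtain ⟨U, hU, hpU, S, hS, hES⟩ := hE (t p)
    obtain ⟨T, hT, hpT⟩ : ∃ T ∈ S, (⟨t p, hpU⟩ : U) ∈ T := by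
      rw [← Set.mem_sUnion, ← hES]; exact hp
    obtain ⟨Q, hQ, hpQ, hQU⟩ : ∃ Q : (Spec R).Opens, IsAffineOpen Q ∧ p ∈ Q ∧
        Q ≤ t ⁻¹ᵁ ⟨U, hU⟩ := by
      obtain ⟨_, ⟨Q, hQ, rfl⟩, hpQ, hQU⟩ :=
        (Spec R).isBasis_affineOpens.exists_subset_of_mem_open
          (show p ∈ t ⁻¹' U from hpU) (hU.preimage t.continuous)
      exact ⟨Q, hQ, hpQ, hQU⟩
    let g := t.resLE ⟨U, hU⟩ Q hQU
    have : IsAffine (Q : Scheme.{u}) := hQ
    have hC : IsConstructible (g ⁻¹' T) :=
      (Groth.Agent.Lim.Topo.isLocallyConstructible_preimage g (hS T hT)).isConstructible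
    have hval : ∀ z : Q, (g z).1 = t z.1 := fun z => congr($(t.resLE_comp_ι hQU) z)
    refine ⟨Q.ι '' (g ⁻¹' T), ?_, isOpen_image_of_isOpenImmersion Q.ι (isClopen_of_isConstructible hC).1,
      ⟨⟨p, hpQ⟩, ?_, rfl⟩⟩
    · rintro _ ⟨z, hz, rfl⟩
      have h1 : g z ∈ (Subtype.val ⁻¹' E : Set U) := hES ▸ Set.mem_sUnion_of_mem hz hT
      exact (congrArg (· ∈ E) (hval z)).mp h1
    · have : g ⟨p, hpQ⟩ = (⟨t p, hpU⟩ : U) := Subtype.ext (hval _)
      exact (congrArg (· ∈ T) this).mpr hpT
  · intro hE x
    obtain ⟨Q, hQ, hxQ⟩ : ∃ Q : X.Opens, IsAffineOpen Q ∧ x ∈ Q := by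
      obtain ⟨_, ⟨Q, hQ, rfl⟩, hxQ, -⟩ :=
        X.isBasis_affineOpens.exists_subset_of_mem_open (Set.mem_univ x) isOpen_univ
      exact ⟨Q, hQ, hxQ⟩
    refine ⟨Q, Q.2, hxQ, {T | IsLocallyConstructible T ∧ T ⊆ Subtype.val ⁻¹' E}, fun T hT => hT.1,
      subset_antisymm (fun z hz => ?_) (Set.sUnion_subset fun T hT => hT.2)⟩
    have hzE : hQ.fromSpec (hQ.primeIdealOf z) ∈ E :=
      (congrArg (· ∈ E) (hQ.fromSpec_primeIdealOf z)).mpr hz
    obtain ⟨C, hC, hzC, hCE⟩ := exists_isConstructible_subset (hE _ hQ.fromSpec) _ hzE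
    refine ⟨hQ.isoSpec.hom ⁻¹' C,
      ⟨(hC.preimage_of_isOpenEmbedding hQ.isoSpec.hom.isOpenEmbedding).isLocallyConstructible,
        fun w hw => ?_⟩, hzC⟩
    exact (congrArg (· ∈ E) (hQ.fromSpec_primeIdealOf w)).mp (hCE hw)

theorem isProConstructible_iff_compl {X : Type u} [TopologicalSpace X] {E : Set X} :
    ProCons.IsProConstructible E ↔ ProCons.IsIndConstructible Eᶜ := by
  have hcompl : ∀ {U : Set X} {T : Set U}, IsLocallyConstructible T → IsLocallyConstructible Tᶜ :=
    fun hT z => by
      obtain ⟨V, h1, h2, h3⟩ := hT z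
      exact ⟨V, h1, h2, h3.compl⟩
  constructor
  · intro h x
    obtain ⟨U, hU, hx, S, hS, hE⟩ := h x
    refine ⟨U, hU, hx, compl '' S, Set.forall_mem_image.mpr fun T hT => hcompl (hS T hT), ?_⟩
    rw [Set.preimage_compl, hE, Set.compl_sInter]
  · intro h x
    obtain ⟨U, hU, hx, S, hS, hE⟩ := h x
    refine ⟨U, hU, hx, compl '' S, Set.forall_mem_image.mpr fun T hT => hcompl (hS T hT), ?_⟩
    rw [← Set.compl_sUnion, ← hE, Set.preimage_compl, compl_compl]

/-- Pro-constructible means closed for the constructible topology on every affine scheme over `X`. -/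
theorem isProConstructible_iff {X : Scheme.{u}} {E : Set X} :
    ProCons.IsProConstructible E ↔
      ∀ (R : CommRingCat.{u}) (t : Spec R ⟶ X),
        IsClosed[constructibleTopology (Spec R)] (t ⁻¹' E) := by
  rw [isProConstructible_iff_compl, isIndConstructible_iff]
  refine forall₂_congr fun R t => ?_
  rw [Set.preimage_compl]
  exact @isOpen_compl_iff _ _ (constructibleTopology (Spec R))

theorem isIndConstructible_preimage {X Y : Scheme.{u}} (f : X ⟶ Y) {E : Set Y}
    (hE : ProCons.IsIndConstructible E) : ProCons.IsIndConstructible (f ⁻¹' E) :=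
  isIndConstructible_iff.mpr fun R t => by
    have h := isIndConstructible_iff.mp hE R (t ≫ f)
    rwa [Scheme.Hom.comp_base, TopCat.coe_comp, Set.preimage_comp] at h

theorem isProConstructible_preimage {X Y : Scheme.{u}} (f : X ⟶ Y) {E : Set Y}
    (hE : ProCons.IsProConstructible E) : ProCons.IsProConstructible (f ⁻¹' E) :=
  isProConstructible_iff.mpr fun R t => by
    have h := isProConstructible_iff.mp hE R (t ≫ f)
    rwa [Scheme.Hom.comp_base, TopCat.coe_comp, Set.preimage_comp] at h

theorem isIndConstructible_iff_isOpen {X : Scheme.{u}} [QuasiSeparatedSpace X] {E : Set X} :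
    ProCons.IsIndConstructible E ↔ IsOpen[constructibleTopology X] E := by
  refine ⟨fun h => ?_, fun h => isIndConstructible_iff.mpr fun R t => isOpen_preimage t h⟩
  refine @isOpen_iff_forall_mem_open _ (constructibleTopology X) _ |>.mpr fun x hx => ?_
  obtain ⟨_, ⟨Q, hQ, rfl⟩, hxQ, -⟩ :=
    X.isBasis_affineOpens.exists_subset_of_mem_open (Set.mem_univ x) isOpen_univ
  obtain ⟨p, rfl⟩ := (IsAffineOpen.range_fromSpec hQ).ge hxQ
  have := IsAffineOpen.isOpenImmersion_fromSpec hQ
  exact ⟨_, Set.image_preimage_subset _ _,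
    isOpen_image_of_isOpenImmersion _ (isIndConstructible_iff.mp h _ (IsAffineOpen.fromSpec hQ)),
    p, hx, rfl⟩

theorem isProConstructible_iff_isClosed {X : Scheme.{u}} [QuasiSeparatedSpace X] {E : Set X} :
    ProCons.IsProConstructible E ↔ IsClosed[constructibleTopology X] E := by
  rw [isProConstructible_iff_compl, isIndConstructible_iff_isOpen]
  exact @isOpen_compl_iff _ _ (constructibleTopology X)

theorem isLocallyConstructible_iff {X : Scheme.{u}} {E : Set X} :
    IsLocallyConstructible E ↔ ProCons.IsIndConstructible E ∧ ProCons.IsProConstructible E := by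
  constructor
  · intro h
    have key : ∀ {F : Set X}, IsLocallyConstructible F → ProCons.IsIndConstructible F := fun hF =>
      isIndConstructible_iff.mpr fun R t =>
        (isClopen_of_isConstructible
          (Groth.Agent.Lim.Topo.isLocallyConstructible_preimage t hF).isConstructible).1
    refine ⟨key h, isProConstructible_iff_compl.mpr (key fun x => ?_)⟩
    obtain ⟨U, h1, h2, h3⟩ := h x
    exact ⟨U, h1, h2, h3.compl⟩
  · intro ⟨hi, hp⟩ x
    obtain ⟨Q, hQ, hxQ⟩ : ∃ Q : X.Opens, IsAffineOpen Q ∧ x ∈ Q := by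
      obtain ⟨_, ⟨Q, hQ, rfl⟩, hxQ, -⟩ :=
        X.isBasis_affineOpens.exists_subset_of_mem_open (Set.mem_univ x) isOpen_univ
      exact ⟨Q, hQ, hxQ⟩
    refine ⟨Q, Q.2.mem_nhds hxQ, Q.2, ?_⟩
    have h : IsConstructible (hQ.fromSpec ⁻¹' E) := isConstructible_of_isClopen
      (isIndConstructible_iff.mp hi _ _) (isProConstructible_iff.mp hp _ _)
    have he : (Subtype.val ⁻¹' E : Set Q) = hQ.isoSpec.hom ⁻¹' (hQ.fromSpec ⁻¹' E) :=
      Set.ext fun z => (congrArg (· ∈ E) (hQ.fromSpec_primeIdealOf z)).symm.to_iff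
    exact (congrArg IsConstructible he).mpr
      (h.preimage_of_isOpenEmbedding hQ.isoSpec.hom.isOpenEmbedding)

/-- Quasi-compact images of pro-constructible sets are pro-constructible. -/
theorem isProConstructible_image {X Y : Scheme.{u}} (f : X ⟶ Y) [QuasiCompact f] {E : Set X}
    (hE : ProCons.IsProConstructible E) : ProCons.IsProConstructible (f '' E) := by
  refine isProConstructible_iff.mpr fun R t => ?_
  let P := pullback f t
  have hcpt : CompactSpace P := inferInstanceAs (CompactSpace ↑(pullback f t))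
  let 𝒰 := P.affineCover.finiteSubcover
  have hfin : Finite 𝒰.I₀ := inferInstance
  have heq : t ⁻¹' (f '' E) = ⋃ k : 𝒰.I₀, (𝒰.f k ≫ pullback.snd f t) ''
      ((𝒰.f k ≫ pullback.fst f t) ⁻¹' E) := by
    ext q
    simp only [Set.mem_preimage, Set.mem_image, Set.mem_iUnion]
    constructor
    · rintro ⟨x, hx, hxq⟩
      obtain ⟨z, hz₁, hz₂⟩ := Scheme.Pullback.exists_preimage_pullback x q hxq
      obtain ⟨w, hw⟩ := 𝒰.covers z
      exact ⟨_, w, by simpa [Scheme.Hom.comp_apply, hw, hz₁] using hx,
        by simp [hw, hz₂]⟩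
    · rintro ⟨k, w, hw, rfl⟩
      refine ⟨_, hw, ?_⟩
      simp only [← Scheme.Hom.comp_apply, Category.assoc, pullback.condition]
  rw [heq]
  refine @isClosed_iUnion_of_finite _ _ (constructibleTopology (Spec R)) _ _ fun k => ?_
  let g : Spec _ ⟶ Spec R := 𝒰.f k ≫ pullback.snd f t
  have hcl := isProConstructible_iff.mp hE _ (𝒰.f k ≫ pullback.fst f t)
  have hc : @IsCompact _ (constructibleTopology (Spec _)) ((𝒰.f k ≫ pullback.fst f t) ⁻¹' E) :=
    @IsClosed.isCompact _ (constructibleTopology _) _ (compactSpace_constructible _) hcl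
  exact @IsCompact.isClosed _ (constructibleTopology (Spec R)) (t2_constructible _) _
    (@IsCompact.image _ _ (constructibleTopology _) (constructibleTopology (Spec R)) _ _ hc
      (continuous_constructible g))

theorem isProConstructible_univ {X : Scheme.{u}} : ProCons.IsProConstructible (Set.univ : Set X) :=
  isProConstructible_iff.mpr fun R t => by
    rw [Set.preimage_univ]; exact @isClosed_univ _ (constructibleTopology (Spec R))

theorem isProConstructible_range {X Y : Scheme.{u}} (f : X ⟶ Y) [QuasiCompact f] :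
    ProCons.IsProConstructible (Set.range f) := by
  rw [← Set.image_univ]; exact isProConstructible_image f isProConstructible_univ

/-- A constructibly closed subset of an affine spectrum is the range of a product of residue fields. -/
theorem exists_range_comap_eq {A : Type u} [CommRing A] {E : Set (PrimeSpectrum A)}
    (hE : IsClosed[constructibleTopology (PrimeSpectrum A)] E) :
    ∃ (B : Type u) (_ : CommRing B) (φ : A →+* B), Set.range (PrimeSpectrum.comap φ) = E := by
  classical
  let B := (p : E) → p.1.asIdeal.ResidueField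
  let φ : A →+* B := RingHom.pi fun p : E => algebraMap A p.1.asIdeal.ResidueField
  refine ⟨B, inferInstance, φ, subset_antisymm ?_ fun p hp => ?_⟩
  · rintro _ ⟨Q, rfl⟩
    by_contra hq
    obtain ⟨C, hC, hqC, hCE⟩ :=
      exists_isConstructible_subset (@IsClosed.isOpen_compl _ (constructibleTopology _) _ hE) _ hq
    obtain ⟨S, rfl⟩ := PrimeSpectrum.exists_constructibleSetData_iff.mpr hC
    obtain ⟨D, hD, hqD⟩ := Set.mem_iUnion₂.mp hqC
    simp only [PrimeSpectrum.BasicConstructibleSetData.toSet, Set.mem_sdiff, PrimeSpectrum.mem_zeroLocus,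
      Set.range_subset_iff, Set.singleton_subset_iff, SetLike.mem_coe] at hqD
    let e : Fin D.n → B := fun i p => if D.g i ∈ p.1.asIdeal then 0 else 1
    have he : ∀ i, e i ∈ Q.asIdeal := fun i => by
      have hgi : φ (D.g i) ∈ Q.asIdeal := hqD.1 i
      have : e i = φ (D.g i) * fun p : E => (algebraMap A p.1.asIdeal.ResidueField (D.g i))⁻¹ := by
        funext p
        change (if D.g i ∈ p.1.asIdeal then 0 else 1) = algebraMap A p.1.asIdeal.ResidueField (D.g i) *
          (algebraMap A p.1.asIdeal.ResidueField (D.g i))⁻¹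
        by_cases h : D.g i ∈ p.1.asIdeal
        · have h0 : algebraMap A p.1.asIdeal.ResidueField (D.g i) = 0 :=
            Ideal.algebraMap_residueField_eq_zero.mpr h
          rw [if_pos h, h0, zero_mul]
        · have h0 : algebraMap A p.1.asIdeal.ResidueField (D.g i) ≠ 0 :=
            fun h' => h (Ideal.algebraMap_residueField_eq_zero.mp h')
          rw [if_neg h, mul_inv_cancel₀ h0]
      rw [this]; exact Q.asIdeal.mul_mem_right _ hgi
    have hzero : φ D.f * ∏ i, (1 - e i) = 0 := by
      funext p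
      change algebraMap A p.1.asIdeal.ResidueField D.f * (∏ i, (1 - e i)) p = 0
      by_cases h : ∀ i, D.g i ∈ p.1.asIdeal
      · have hf : D.f ∈ p.1.asIdeal := by
          by_contra hf
          refine hCE (Set.mem_iUnion₂.mpr ⟨D, hD, ?_⟩) p.2
          simp only [PrimeSpectrum.BasicConstructibleSetData.toSet, Set.mem_sdiff,
            PrimeSpectrum.mem_zeroLocus, Set.range_subset_iff, Set.singleton_subset_iff, SetLike.mem_coe]
          exact ⟨h, hf⟩
        rw [Ideal.algebraMap_residueField_eq_zero.mpr hf, zero_mul]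
      · push Not at h
        obtain ⟨i, hi⟩ := h
        have : (∏ j, (1 - e j)) p = 0 := by
          rw [Finset.prod_apply]
          exact Finset.prod_eq_zero (Finset.mem_univ i)
            (show (1 : p.1.asIdeal.ResidueField) - (if D.g i ∈ p.1.asIdeal then 0 else 1) = 0 by rw [if_neg hi, sub_self])
        rw [this, mul_zero]
    rcases Q.2.mem_or_mem (hzero ▸ Q.asIdeal.zero_mem) with h | h
    · exact hqD.2 h
    · obtain ⟨i, -, hi⟩ := (Q.2.prod_mem_iff).mp h
      exact Q.2.ne_top ((Ideal.eq_top_iff_one _).mpr (by simpa using add_mem hi (he i)))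
  · let ev : B →+* p.asIdeal.ResidueField := Pi.evalRingHom (fun p : E => p.1.asIdeal.ResidueField) ⟨p, hp⟩
    refine ⟨PrimeSpectrum.comap ev ⊥, PrimeSpectrum.ext ?_⟩
    ext a
    exact Ideal.algebraMap_residueField_eq_zero

/-- A pro-constructible subset of a quasi-compact scheme is the range of an affine scheme. -/
theorem exists_range_eq {X : Scheme.{u}} [CompactSpace X] {E : Set X}
    (hE : ProCons.IsProConstructible E) :
    ∃ (X' : Scheme.{u}) (f : X' ⟶ X), IsAffine X' ∧ Set.range f = E := by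
  let 𝒰 := X.affineCover.finiteSubcover
  have hfin : Finite 𝒰.I₀ := inferInstance
  choose B _inst φ hφ using fun k : 𝒰.I₀ =>
    exists_range_comap_eq (isProConstructible_iff.mp hE _ (𝒰.f k))
  let g : ∀ k : 𝒰.I₀, Spec (CommRingCat.of (B k)) ⟶ X :=
    fun k => Spec.map (CommRingCat.ofHom (φ k)) ≫ 𝒰.f k
  refine ⟨∐ fun k : 𝒰.I₀ => Spec (CommRingCat.of (B k)), Sigma.desc g, inferInstance,
    subset_antisymm ?_ fun x hx => ?_⟩
  · rintro _ ⟨z, rfl⟩
    obtain ⟨k, w, rfl⟩ := (sigmaOpenCover _).exists_eq z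
    rw [← Scheme.Hom.comp_apply]
    have : (sigmaOpenCover fun k : 𝒰.I₀ => Spec (CommRingCat.of (B k))).f k ≫ Sigma.desc g = g k :=
      Sigma.ι_desc _ _
    rw [this]
    exact (Set.ext_iff.mp (hφ k) _).mp ⟨w, rfl⟩
  · obtain ⟨w, hw⟩ := 𝒰.covers x
    obtain ⟨v, hv⟩ := (Set.ext_iff.mp (hφ _) w).mpr
      (show 𝒰.f _ w ∈ E from hw.symm ▸ hx)
    refine ⟨Sigma.ι (fun k : 𝒰.I₀ => Spec (CommRingCat.of (B k))) _ v, ?_⟩
    exact (congr($(Sigma.ι_desc g _) v)).trans ((congrArg (𝒰.f _) hv).trans hw)

theorem exists_specializes_of_mem_closure {X : Scheme.{u}} {E : Set X}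
    (hE : ProCons.IsProConstructible E) {x : X} (hx : x ∈ closure E) : ∃ z ∈ E, z ⤳ x := by
  obtain ⟨Q, hQ, hxQ⟩ : ∃ Q : X.Opens, IsAffineOpen Q ∧ x ∈ Q := by
    obtain ⟨_, ⟨Q, hQ, rfl⟩, hxQ, -⟩ :=
      X.isBasis_affineOpens.exists_subset_of_mem_open (Set.mem_univ x) isOpen_univ
    exact ⟨Q, hQ, hxQ⟩
  obtain ⟨p, rfl⟩ := hQ.range_fromSpec.ge hxQ
  obtain ⟨B, _, φ, hφ⟩ := exists_range_comap_eq (isProConstructible_iff.mp hE _ hQ.fromSpec)
  have hp : p ∈ closure (Set.range (Spec.map (CommRingCat.ofHom φ))) := by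
    have : p ∈ closure (hQ.fromSpec ⁻¹' E) :=
      (hQ.fromSpec.isOpenEmbedding.isOpenMap.preimage_closure_eq_closure_preimage
        hQ.fromSpec.continuous E).le hx
    rwa [← hφ] at this
  obtain ⟨b, hb⟩ := Topo.QCImage.exists_specializes_of_mem_closure_range _ hp
  exact ⟨_, (Set.ext_iff.mp hφ _).mp ⟨b, rfl⟩, hb.map hQ.fromSpec.continuous⟩

/-- On a quasi-compact scheme, covers of pro-constructible sets by ind-constructible sets have
finite subcovers. -/
theorem exists_finite_subcover {X : Scheme.{u}} [CompactSpace X] {F : Set X}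
    (hF : ProCons.IsProConstructible F) {ι : Type*} (E : ι → Set X)
    (hE : ∀ i, ProCons.IsIndConstructible (E i)) (h : F ⊆ ⋃ i, E i) :
    ∃ J : Finset ι, F ⊆ ⋃ i ∈ J, E i := by
  classical
  obtain ⟨X', f, hX', rfl⟩ := exists_range_eq hF
  have : CompactSpace X' := inferInstance
  have hqs : QuasiSeparatedSpace X' := inferInstance
  have hc : @IsCompact X' (constructibleTopology X') Set.univ :=
    @CompactSpace.isCompact_univ X' (constructibleTopology X') (compactSpace_constructible X')
  obtain ⟨J, hJ⟩ := @IsCompact.elim_finite_subcover X' (constructibleTopology X') Set.univ ι hc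
    (fun i => f ⁻¹' E i)
    (fun i => isIndConstructible_iff_isOpen.mp (isIndConstructible_preimage f (hE i)))
    (fun z _ => by
      obtain ⟨i, hi⟩ := Set.mem_iUnion.mp (h ⟨z, rfl⟩)
      exact Set.mem_iUnion.mpr ⟨i, hi⟩)
  refine ⟨J, ?_⟩
  rintro _ ⟨z, rfl⟩
  obtain ⟨i, hi, hz⟩ := Set.mem_iUnion₂.mp (hJ (Set.mem_univ z))
  exact Set.mem_iUnion₂.mpr ⟨i, hi, hz⟩

end Groth.Agent.Cons.Basic
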