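import Mathlib.RingTheory.Spectrum.Prime.ConstructibleSet
import Mathlib.RingTheory.FinitePresentation
import Mathlib.RingTheory.Localization.Away.AdjoinRoot
import Mathlib.RingTheory.RingHom.FinitePresentation

/-! Basic constructible sets are ranges of finitely presented algebras. -/

universe u

namespace Groth.Agent.Cons.FinPres

open PrimeSpectrum

theorem exists_finitePresentation_range_eq {A : Type u} [CommRing A] (D : BasicConstructibleSetData A) :
    ∃ (S : Type u) (_ : CommRing S) (φ : A →+* S), φ.FinitePresentation ∧
      Set.range (comap φ) = D.toSet := by
  let I := Ideal.span (Set.range D.g)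
  let f := Ideal.Quotient.mk I D.f
  refine ⟨Localization.Away f, inferInstance, (algebraMap (A ⧸ I) (Localization.Away f)).comp (Ideal.Quotient.mk I), ?_, ?_⟩
  · exact RingHom.FinitePresentation.comp
      (RingHom.finitePresentation_algebraMap.mpr (IsLocalization.Away.finitePresentation f))
      (RingHom.FinitePresentation.of_surjective _ Ideal.Quotient.mk_surjective
        (by rw [Ideal.mk_ker]; exact Submodule.fg_span (Set.finite_range _)))
  · rw [comap_comp, Set.range_comp, localization_away_comap_range _ f, ← comap_basicOpen,
      TopologicalSpace.Opens.coe_comap, ContinuousMap.coe_mk, Set.image_preimage_eq_inter_range,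
      range_comap_of_surjective _ _ Ideal.Quotient.mk_surjective, BasicConstructibleSetData.toSet,
      Set.sdiff_eq_compl_inter, basicOpen_eq_zeroLocus_compl, Ideal.mk_ker, zeroLocus_span]

end Groth.Agent.Cons.FinPres
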